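import Groth.Prelude.Def_Red
import Groth.Prelude.Def_Frob
import Groth.Agent.Lib.SubPre14.Basic
import Mathlib

/-!
# Descending a subgroup along a purely inseparable extension by a Frobenius pull-back
-/

set_option autoImplicit false
set_option linter.all false
set_option backward.isDefEq.respectTransparency false
set_option backward.isDefEq.respectTransparency.types false

universe u

open CategoryTheory CategoryTheory.Limits MonoidalCategory CartesianMonoidalCategory MonObj GrpObj AlgebraicGeometry

noncomputable section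

namespace GrothLib.FrobSub13

section Iter

variable (p : ℕ) [Fact p.Prime]

/-- The iterated absolute Frobenius. -/
def frobN (X : Scheme.{u}) [FrobSch.IsCharP X p] : ℕ → (X ⟶ X)
  | 0 => 𝟙 X
  | n + 1 => FrobSch.frob X p ≫ frobN X n

theorem frobN_comp {X Y : Scheme.{u}} [FrobSch.IsCharP X p] [FrobSch.IsCharP Y p] (f : X ⟶ Y) :
    ∀ n, frobN p X n ≫ f = f ≫ frobN p Y n
  | 0 => by simp [frobN]
  | n + 1 => by
    rw [frobN, frobN, Category.assoc, frobN_comp f n, FrobSch.frob_comp_assoc p f]

theorem frobN_apply (X : Scheme.{u}) [FrobSch.IsCharP X p] : ∀ (n : ℕ) (x : X), frobN p X n x = x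
  | 0, x => rfl
  | n + 1, x => by
    rw [frobN, Scheme.Hom.comp_apply, frobN_apply X n]
    rfl

theorem frobN_appTop (X : Scheme.{u}) [FrobSch.IsCharP X p] :
    ∀ (n : ℕ) (a : Γ(X, ⊤)), (frobN p X n).appTop a = a ^ p ^ n
  | 0, a => by simp [frobN]
  | n + 1, a => by
    rw [frobN, Scheme.Hom.comp_appTop]
    show (FrobSch.frob X p).appTop ((frobN p X n).appTop a) = a ^ p ^ (n + 1)
    rw [frobN_appTop X n a, FrobSch.frob_appTop, ← pow_mul, ← pow_succ]

theorem frobN_spec (R : Type u) [CommRing R] [CharP R p] (n : ℕ) (f : R →+* R) (hf : ∀ r, f r = r ^ p ^ n) :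
    frobN p (Spec (CommRingCat.of R)) n = Spec.map (CommRingCat.ofHom f) := by
  refine ext_of_isAffine ?_
  ext a
  rw [frobN_appTop]
  apply (Scheme.ΓSpecIso (CommRingCat.of R)).commRingCatIsoToRingEquiv.injective
  rw [map_pow]
  have h := congr($(Scheme.ΓSpecIso_naturality (CommRingCat.ofHom f)) a)
  simp only [CommRingCat.comp_apply] at h
  exact ((hf _).symm.trans h.symm)

end Iter

section Core

variable {k K : Type u} [Field k] [Field K]
  (π : Spec (CommRingCat.of K) ⟶ Spec (CommRingCat.of k)) (s : Spec (CommRingCat.of k) ⟶ Spec (CommRingCat.of K))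

set_option maxHeartbeats 4000000 in
set_option synthInstance.maxHeartbeats 400000 in
/-- The core of the Frobenius descent. -/
theorem exists_subgroup (d : ∀ X : Over (Spec (CommRingCat.of k)), X.left ⟶ X.left)
    (hnat : ∀ {X Y : Over (Spec (CommRingCat.of k))} (f : X ⟶ Y), d X ≫ f.left = f.left ≫ d Y)
    (hbase : ∀ X (x : X.left), d X x = x)
    (hk : ∀ X : Over (Spec (CommRingCat.of k)), d X ≫ X.hom = X.hom ≫ s ≫ π)
    (hK : ∀ Y : Over (Spec (CommRingCat.of K)), d ((Over.map π).obj Y) ≫ Y.hom = Y.hom ≫ π ≫ s)
    (G : Over (Spec (CommRingCat.of k))) [GrpObj G] (H' : Over (Spec (CommRingCat.of K))) [GrpObj H']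
    (h' : H' ⟶ Red.bc π G) [IsMonHom h'] [IsClosedImmersion h'.left] :
    ∃ (H : Over (Spec (CommRingCat.of k))) (_ : GrpObj H) (h : H ⟶ G), IsMonHom h ∧ IsClosedImmersion h.left ∧
      ∃ g : H' ⟶ Red.bc π H, g ≫ (Over.pullback π).map h = h' ∧ Surjective g.left := by
  let α : 𝟭 (Over (Spec (CommRingCat.of k))) ⟶ Over.pullback π ⋙ Over.pullback s :=
    { app := fun X => Over.homMk
        (pullback.lift (pullback.lift (d X) (X.hom ≫ s) ((hk X).trans (Category.assoc _ _ _).symm)) X.hom
          (pullback.lift_snd _ _ _))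
        (pullback.lift_snd _ _ _)
      naturality := fun X Y f => by
        ext1
        refine pullback.hom_ext (pullback.hom_ext ?_ ?_) ?_
        · simp [hnat f]
        · simp
        · simp }
  let Φ : G ⟶ (Over.pullback s).obj ((Over.pullback π).obj G) := α.app G
  have hα : IsMonHom Φ := by
    refine ⟨?_, ?_⟩
    · show η[G] ≫ α.app G = η[(Over.pullback s).obj ((Over.pullback π).obj G)]
      have h := NatTrans.IsMonoidal.unit (τ := α)
      have n := α.naturality η[G]
      simp only [Functor.id_map, Functor.comp_map, Functor.LaxMonoidal.comp_ε, Functor.LaxMonoidal.id_ε,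
        Category.id_comp] at h n
      rw [n, h, Functor.obj.η_def, Functor.obj.η_def, Functor.map_comp]
      simp only [Category.assoc]
    · show μ[G] ≫ α.app G = (Φ ⊗ₘ Φ) ≫ μ[(Over.pullback s).obj ((Over.pullback π).obj G)]
      have h := NatTrans.IsMonoidal.tensor (τ := α) G G
      have n := α.naturality μ[G]
      simp only [Functor.id_map, Functor.id_obj, Functor.comp_map, Functor.LaxMonoidal.comp_μ,
        Functor.LaxMonoidal.id_μ, Category.id_comp] at h n
      rw [n, h, Functor.obj.μ_def, Functor.obj.μ_def, Functor.map_comp]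
      simp only [Category.assoc]
      rfl
  haveI : IsMonHom Φ := hα
  let h₁ := (Over.pullback s).map h'
  haveI : Mono h' := Over.mono_of_mono_left h'
  haveI : (Over.pullback s).IsRightAdjoint := (Over.mapPullbackAdj _).isRightAdjoint
  haveI : Mono h₁ := inferInstance
  have hfst : ∀ {X Y : Over (Spec (CommRingCat.of K))} (f : X ⟶ Y),
      ((Over.pullback s).map f).left ≫ pullback.fst Y.hom s = pullback.fst X.hom s ≫ f.left :=
    fun f => pullback.lift_fst _ _ _
  have hfstπ : ∀ {X Y : Over (Spec (CommRingCat.of k))} (f : X ⟶ Y),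
      ((Over.pullback π).map f).left ≫ pullback.fst Y.hom π = pullback.fst X.hom π ≫ f.left :=
    fun f => pullback.lift_fst _ _ _
  haveI : IsClosedImmersion h₁.left := by
    refine MorphismProperty.of_isPullback (P := @IsClosedImmersion)
      (g' := h₁.left) (f' := pullback.fst H'.hom s) (g := h'.left) (f := pullback.fst (Red.bc π G).hom s) ?_ inferInstance
    refine IsPullback.of_right ?_ (hfst h') (IsPullback.of_hasPullback (Red.bc π G).hom s).flip |>.flip
    rw [show h₁.left ≫ pullback.snd (Red.bc π G).hom s = pullback.snd H'.hom s from pullback.lift_snd _ _ _,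
      Over.w h']
    exact (IsPullback.of_hasPullback H'.hom s).flip
  let H := pullback h₁ Φ
  let a : H ⟶ (Over.pullback s).obj H' := pullback.fst h₁ Φ
  let b : H ⟶ G := pullback.snd h₁ Φ
  have sq : IsPullback a b h₁ Φ := IsPullback.of_hasPullback _ _
  obtain ⟨grp, -, hb⟩ := GrothLib.SubPre14.exists_grpObj_pullback Φ h₁ a b sq
  letI := grp; haveI := hb
  haveI hbc : IsClosedImmersion b.left :=
    MorphismProperty.of_isPullback (P := @IsClosedImmersion) (sq.map (Over.forget _)) ‹IsClosedImmersion h₁.left›
  refine ⟨H, grp, b, hb, hbc, ?_⟩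
  let GK := (Over.pullback π).obj G
  let e : (Over.map π).obj GK ⟶ G := Over.homMk (pullback.fst G.hom π) pullback.condition
  have L : pullback.fst G.hom π ≫ Φ.left ≫ pullback.fst GK.hom s = d ((Over.map π).obj GK) := by
    have h0 : Φ.left ≫ pullback.fst GK.hom s =
        pullback.lift (d G) (G.hom ≫ s) ((hk G).trans (Category.assoc _ _ _).symm) := pullback.lift_fst _ _ _
    rw [h0]
    refine pullback.hom_ext ?_ ?_
    · rw [Category.assoc, pullback.lift_fst]
      exact (hnat e).symm
    · rw [Category.assoc, pullback.lift_snd, ← Category.assoc, pullback.condition, Category.assoc]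
      exact (hK GK).symm
  let xk : (Over.map π).obj H' ⟶ G := Over.homMk (h'.left ≫ pullback.fst G.hom π) (by
    show (h'.left ≫ pullback.fst G.hom π) ≫ G.hom = H'.hom ≫ π
    rw [Category.assoc, pullback.condition, ← Category.assoc]
    exact congrArg (· ≫ π) (Over.w h'))
  let yk : (Over.map π).obj H' ⟶ (Over.pullback s).obj H' :=
    Over.homMk (pullback.lift (d ((Over.map π).obj H')) (H'.hom ≫ π) ((hK H').trans (Category.assoc _ _ _).symm))
      (pullback.lift_snd _ _ _)
  have exy : yk ≫ h₁ = xk ≫ Φ := by
    ext1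
    refine pullback.hom_ext (f := GK.hom) (g := s) ?_ ?_
    · show (yk.left ≫ h₁.left) ≫ pullback.fst GK.hom s =
        ((h'.left ≫ pullback.fst G.hom π) ≫ Φ.left) ≫ pullback.fst GK.hom s
      rw [Category.assoc, hfst h', Category.assoc, Category.assoc, L, ← Category.assoc]
      rw [show yk.left ≫ pullback.fst H'.hom s = d ((Over.map π).obj H') from pullback.lift_fst _ _ _]
      exact hnat ((Over.map π).map h')
    · exact (Over.w (yk ≫ h₁)).trans (Over.w (xk ≫ Φ)).symm
  let l : (Over.map π).obj H' ⟶ H := sq.lift yk xk exy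
  have hl : l ≫ b = xk := sq.lift_snd _ _ _
  let g : H' ⟶ Red.bc π H := Over.homMk (pullback.lift l.left H'.hom (Over.w l)) (pullback.lift_snd _ _ _)
  have hg : g ≫ (Over.pullback π).map b = h' := by
    ext1
    refine pullback.hom_ext (f := G.hom) (g := π) ?_ ?_
    · rw [Over.comp_left, Category.assoc, hfstπ b, ← Category.assoc]
      rw [show g.left ≫ pullback.fst H.hom π = l.left from pullback.lift_fst _ _ _, ← Over.comp_left, hl]
      rfl
    · exact (Over.w (g ≫ (Over.pullback π).map b)).trans (Over.w h').symm
  refine ⟨g, hg, ⟨fun z => ?_⟩⟩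
  let bK := ((Over.pullback π).map b).left
  haveI : IsClosedImmersion bK := by
    refine MorphismProperty.of_isPullback (P := @IsClosedImmersion)
      (g' := bK) (f' := pullback.fst H.hom π) (g := b.left) (f := pullback.fst G.hom π) ?_ hbc
    refine IsPullback.of_right ?_ (hfstπ b) (IsPullback.of_hasPullback G.hom π).flip |>.flip
    rw [show bK ≫ pullback.snd G.hom π = pullback.snd H.hom π from pullback.lift_snd _ _ _, Over.w b]
    exact (IsPullback.of_hasPullback H.hom π).flip
  have key : bK ≫ d ((Over.map π).obj GK) =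
      pullback.fst H.hom π ≫ a.left ≫ pullback.fst H'.hom s ≫ h'.left := by
    rw [← L, ← Category.assoc, hfstπ b, Category.assoc, ← Over.comp_left_assoc, ← sq.w, Over.comp_left,
      Category.assoc, hfst h']
  have hz := congr($key z)
  simp only [Scheme.Hom.comp_apply] at hz
  erw [hbase ((Over.map π).obj GK)] at hz
  refine ⟨(a.left ≫ pullback.fst H'.hom s) (pullback.fst H.hom π z), ?_⟩
  apply (IsClosedImmersion.base_closed (f := bK)).injective
  have hgl : g.left ≫ bK = h'.left := congrArg CommaMorphism.left hg
  rw [← Scheme.Hom.comp_apply, hgl, Scheme.Hom.comp_apply]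
  exact hz.symm

end Core

/-- Descent of a subgroup along a finite purely inseparable extension. -/
theorem main (k K : Type u) [Field k] [Field K] [Algebra k K] [Module.Finite k K] [IsPurelyInseparable k K]
    (G : Over (Spec (CommRingCat.of k))) [GrpObj G] (H' : Over (Spec (CommRingCat.of K))) [GrpObj H']
    (h' : H' ⟶ Red.bc (Spec.map (CommRingCat.ofHom (algebraMap k K))) G) [IsMonHom h']
    [IsClosedImmersion h'.left] :
    ∃ (H : Over (Spec (CommRingCat.of k))) (_ : GrpObj H) (h : H ⟶ G), IsMonHom h ∧ IsClosedImmersion h.left ∧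
      ∃ g : H' ⟶ Red.bc (Spec.map (CommRingCat.ofHom (algebraMap k K))) H,
        g ≫ (Over.pullback (Spec.map (CommRingCat.ofHom (algebraMap k K)))).map h = h' ∧ Surjective g.left := by
  obtain ⟨q, hq⟩ := ExpChar.exists k
  cases hq with
  | zero =>
    haveI : Algebra.IsSeparable k K := inferInstance
    have hsurj : Function.Surjective (algebraMap k K) := IsPurelyInseparable.surjective_algebraMap_of_isSeparable k K
    haveI : IsIso (CommRingCat.ofHom (algebraMap k K)) :=
      (ConcreteCategory.isIso_iff_bijective (CommRingCat.ofHom (algebraMap k K))).2 ⟨RingHom.injective _, hsurj⟩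
    exact exists_subgroup _ (inv (Spec.map (CommRingCat.ofHom (algebraMap k K)))) (fun X => 𝟙 _)
      (fun f => by simp) (fun X x => rfl) (fun X => by simp) (fun Y => by simp) G H' h'
  | prime hp =>
    haveI : Fact q.Prime := ⟨hp⟩
    haveI : CharP K q := charP_of_injective_algebraMap (RingHom.injective (algebraMap k K)) q
    haveI : ExpChar K q := ExpChar.prime hp
    haveI : ExpChar k q := ExpChar.prime hp
    obtain ⟨N, hN⟩ : ∃ N, ∀ x : K, x ^ q ^ N ∈ (algebraMap k K).range := by
      classical
      obtain ⟨B, hB⟩ := (Module.Finite.fg_top (R := k) (M := K))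
      have h1 := fun b : K => IsPurelyInseparable.pow_mem k q b
      choose m hm using h1
      refine ⟨B.sup m, fun x => ?_⟩
      have hx : x ∈ Submodule.span k (B : Set K) := by rw [hB]; trivial
      induction hx using Submodule.span_induction with
      | mem y hy =>
        obtain ⟨c, hc⟩ := Nat.le.dest (Finset.le_sup (f := m) hy)
        rw [← hc, pow_add, pow_mul]
        exact Subring.pow_mem _ (hm y) _
      | zero => simp [hp.ne_zero]
      | add y z _ _ hy hz => rw [add_pow_expChar_pow]; exact Subring.add_mem _ hy hz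
      | smul c y _ hy => rw [Algebra.smul_def, mul_pow, ← map_pow]; exact Subring.mul_mem _ ⟨_, rfl⟩ hy
    choose σ₀ hσ₀ using hN
    let σ : K →+* k :=
      { toFun := σ₀
        map_one' := (algebraMap k K).injective (by rw [hσ₀, one_pow, map_one])
        map_mul' := fun x y => (algebraMap k K).injective (by rw [map_mul, hσ₀, hσ₀, hσ₀, mul_pow])
        map_zero' := (algebraMap k K).injective (by rw [hσ₀, zero_pow (pow_ne_zero _ hp.ne_zero), map_zero])
        map_add' := fun x y => (algebraMap k K).injective (by rw [map_add, hσ₀, hσ₀, hσ₀, add_pow_expChar_pow]) }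
    have e1 : (σ.comp (algebraMap k K)) = iterateFrobenius k q N := RingHom.ext fun x =>
      (algebraMap k K).injective (by rw [iterateFrobenius_def, map_pow]; exact hσ₀ _)
    have e2 : ((algebraMap k K).comp σ) = iterateFrobenius K q N := RingHom.ext fun x =>
      (hσ₀ x).trans (iterateFrobenius_def q N x).symm
    have ek : frobN q (Spec (CommRingCat.of k)) N =
        Spec.map (CommRingCat.ofHom σ) ≫ Spec.map (CommRingCat.ofHom (algebraMap k K)) := by
      rw [← Spec.map_comp, ← CommRingCat.ofHom_comp, e1]
      exact frobN_spec q k N _ (fun r => iterateFrobenius_def q N r)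
    have eK : frobN q (Spec (CommRingCat.of K)) N =
        Spec.map (CommRingCat.ofHom (algebraMap k K)) ≫ Spec.map (CommRingCat.ofHom σ) := by
      rw [← Spec.map_comp, ← CommRingCat.ofHom_comp, e2]
      exact frobN_spec q K N _ (fun r => iterateFrobenius_def q N r)
    exact exists_subgroup _ (Spec.map (CommRingCat.ofHom σ))
      (fun X => haveI := FrobSch.IsCharP.of_hom X.hom q; frobN q X.left N)
      (fun {X Y} f => by
        haveI := FrobSch.IsCharP.of_hom X.hom q
        haveI := FrobSch.IsCharP.of_hom Y.hom q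
        exact frobN_comp q f.left N)
      (fun X x => by
        haveI := FrobSch.IsCharP.of_hom X.hom q
        exact frobN_apply q X.left N x)
      (fun X => by
        haveI := FrobSch.IsCharP.of_hom X.hom q
        rw [← ek]
        exact frobN_comp q X.hom N)
      (fun Y => by
        haveI := FrobSch.IsCharP.of_hom Y.hom q
        rw [← eK]
        exact frobN_comp q Y.hom N)
      G H' h'

end GrothLib.FrobSub13
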